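import Cfsg.Agent.Lib.F4PrimeGraph.Order
import Cfsg.Agent.Lib.RegTorus.FixedElement
import Cfsg.Agent.Lib.RegTorus.CyclicFixed
import Cfsg.Agent.Lib.RegTorus.TrialityTorus
import Cfsg.Agent.Lib.CycTorus.SylowTypes

/-!
# Elements of product order in F₄(q), `q` even
-/

set_option autoImplicit false

namespace CfsgLib.F4PrimeGraph

open Cfsg.Lie CfsgLib.ChevStr CfsgLib.ChevField CfsgLib.CycTorus CfsgLib.RegTorus
  CfsgLib.RegTorus.Coef

/-- A word of node indices as a word of nodes. -/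
def wordOf (w : List ℕ) : List (Fin chevF4.rank) :=
  w.map fun i : ℕ => (⟨i % chevF4.rank, Nat.mod_lt _ (by decide)⟩ : Fin chevF4.rank)

/-- An entry of a certificate. -/
def entry (e : EigCert) (j : ℕ) : List ℤ := e.v.getD j []

/-- The check of a certificate against a word. -/
def certOK (w : List ℕ) (e : EigCert) : Bool :=
  decide (e.d ∈ orders) && decide (e.a < 4) && (List.finRange chevF4.rank).all fun a =>
    decide ((entry e a.val).length = 4) &&
    decide (0 :: comb 4 ((List.finRange chevF4.rank).map fun j =>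
        (wordMat chevF4 (wordOf w) a j, entry e j.val)) =
      List.zipWith (fun x y => e.h.getD a.val 0 * x + y) (phiL e.d) (entry e a.val ++ [0])) &&
    decide ((a.val = e.a → entry e a.val = [1, 0, 0, 0] ∨ entry e a.val = [0, 1, 0, 0]))

theorem rows_ok : (rows.all fun p => p.2.all fun e => certOK p.1 e) = true := by decide +kernel

theorem rootRows_ok : (rootRows.all fun p => certOK p.1 p.2 &&
    decide (wordRoot chevF4 (wordOf p.1) 47 = 47) &&
    decide (comb 4 ((List.finRange chevF4.rank).map fun j =>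
      (chevF4.cartan j.val 47, entry p.2 j.val)) = [0, 0, 0, 0])) = true := by decide +kernel

theorem rows_cover : ∀ k ∈ orders, ∀ l ∈ orders,
    (k = l ∨ ((k, l) ∈ [(1, 2), (1, 3), (1, 4), (1, 6), (2, 3), (2, 4), (2, 6)])) →
      ∃ p ∈ rows, ∃ e ∈ p.2, e.d = k ∧ ∃ e' ∈ p.2, e'.d = l := by decide +kernel

theorem rootRows_cover : ∀ l ∈ [1, 2, 3, 4, 6], ∃ p ∈ rootRows, p.2.d = l := by decide +kernel

variable {F : Type*} [Field F]

/-- The torus parameter of a certificate. -/
def eigTuple (q : ℕ) (ω : Fˣ) (e : EigCert) (j : Fin chevF4.rank) : Fˣ :=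
  ω ^ evalL (q : ℤ) (entry e j.val)

theorem phiL_length (d : ℕ) : (phiL d).length = 5 := by
  unfold phiL
  split <;> rfl

theorem cert_spec {w : List ℕ} {e : EigCert} (h : certOK w e = true) (C : ChevCore chevF4 F) {q r : ℕ}
    [Fact r.Prime] (hrq : ¬ r ∣ q) (hd : (r : ℤ) ∣ phi e.d q) {ω : Fˣ} (hω : orderOf ω = r) :
    wordPar C (wordOf w) (eigTuple q ω e ^ q) = eigTuple q ω e ∧ orderOf (eigTuple q ω e) = r := by
  simp only [certOK, List.all_eq_true, List.mem_finRange, true_implies, Bool.and_eq_true,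
    decide_eq_true_eq] at h
  obtain ⟨⟨-, ha⟩, hrow⟩ := h
  refine ⟨?_, ?_⟩
  · rw [wordPar_eq_monMap]
    have e1 : eigTuple q ω e ^ q = fun j => ω ^ ((q : ℤ) * evalL (q : ℤ) (entry e j.val)) :=
      funext fun j => by rw [Pi.pow_apply, eigTuple, ← zpow_natCast, ← zpow_mul, mul_comm]
    rw [e1, monMap_zpow_const]
    funext a
    obtain ⟨⟨hla, hstep⟩, -⟩ := hrow a
    have hcomb := evalL_comb (q : ℤ) (n := 4) ((List.finRange chevF4.rank).map fun j =>
        (wordMat chevF4 (wordOf w) a j, entry e j.val)) (by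
      intro p hp
      obtain ⟨j, -, rfl⟩ := List.mem_map.1 hp
      exact (hrow j).1.1)
    have h1 := congrArg (evalL (q : ℤ)) hstep
    rw [evalL, zero_add, hcomb.2, List.map_map, evalL_zipWith _ _ (by
      rw [phiL_length, List.length_append, hla]; rfl), evalL_append_zero] at h1
    obtain ⟨c, hc⟩ := hd
    have hωc : ω ^ (e.h.getD a.val 0 * phi e.d q) = 1 :=
      orderOf_dvd_iff_zpow_eq_one.1 (hω ▸ ⟨e.h.getD a.val 0 * c, by rw [hc]; ring⟩)
    have e2 : ∑ j, wordMat chevF4 (wordOf w) a j * ((q : ℤ) * evalL (q : ℤ) (entry e j.val)) =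
        e.h.getD a.val 0 * phi e.d q + evalL (q : ℤ) (entry e a.val) := by
      rw [phi, ← h1, Fin.sum_univ_def, ← List.sum_map_mul_left]
      congr 1
      exact List.map_congr_left fun j _ => by simp only [Function.comp]; ring
    rw [e2, zpow_add, hωc, one_mul, eigTuple]
  · refine orderOf_eq_prime (funext fun j => ?_) fun h1 => ?_
    · rw [Pi.pow_apply, eigTuple, ← zpow_natCast, ← zpow_mul, mul_comm, zpow_mul, zpow_natCast, ← hω,
        pow_orderOf_eq_one, one_zpow]
      rfl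
    · have hlt : e.a < chevF4.rank := ha.trans_le (by decide +kernel)
      have h2 := congrFun h1 ⟨e.a, hlt⟩
      rw [eigTuple, Pi.one_apply, ← orderOf_dvd_iff_zpow_eq_one, hω] at h2
      rcases (hrow ⟨e.a, hlt⟩).2 rfl with hu | hu <;> rw [hu] at h2 <;>
        simp only [evalL, mul_zero, add_zero, zero_add, mul_one] at h2
      · exact (Fact.out : r.Prime).not_dvd_one (by exact_mod_cast h2)
      · exact hrq (by exact_mod_cast h2)

section finite

variable {K : Type*} [Field K] [Fintype K]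

/-- The setting over the algebraic closure. -/
theorem exists_root_of_unity {n r : ℕ} (hn : 1 ≤ n) (hK : Fintype.card K = 2 ^ n) (hr : r.Prime)
    (hr2 : r ≠ 2) : ∃ ω : (AlgebraicClosure K)ˣ, orderOf ω = r := by
  have : Fact r.Prime := ⟨hr⟩
  have hchar : CharP K 2 := by
    obtain ⟨c, hc⟩ := CharP.exists K
    obtain ⟨m, hcp, hcard⟩ := FiniteField.card K c
    have h2 : 2 ∣ c ^ (m : ℕ) := ⟨2 ^ (n - 1), by rw [← hcard, hK, ← pow_succ', Nat.sub_add_cancel hn]⟩
    obtain rfl := (Nat.prime_dvd_prime_iff_eq Nat.prime_two hcp).1 (Nat.prime_two.dvd_of_dvd_pow h2)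
    exact hc
  have : CharP (AlgebraicClosure K) 2 :=
    charP_of_injective_ringHom (algebraMap K (AlgebraicClosure K)).injective 2
  have : NeZero ((r : ℕ) : AlgebraicClosure K) := ⟨by
    rw [Ne, CharP.cast_eq_zero_iff (AlgebraicClosure K) 2]
    exact fun h => hr2 ((Nat.prime_dvd_prime_iff_eq Nat.prime_two hr).1 h).symm⟩
  obtain ⟨w, hw⟩ := HasEnoughRootsOfUnity.exists_primitiveRoot (AlgebraicClosure K) r
  obtain ⟨ω, rfl⟩ : ∃ ω : (AlgebraicClosure K)ˣ, (ω : AlgebraicClosure K) = w :=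
    ⟨(hw.isUnit hr.ne_zero).unit, rfl⟩
  exact ⟨ω, (IsPrimitiveRoot.coe_units_iff.1 hw).eq_orderOf.symm⟩

/-- A fixed parameter gives an element of the finite group, with an involution for the highest
root. -/
theorem exists_element {n : ℕ} (hn : 1 ≤ n) (hK : Fintype.card K = 2 ^ n)
    (L : List (Fin chevF4.rank)) (t : Fin chevF4.rank → (AlgebraicClosure K)ˣ)
    (ht : wordPar (coreF4 (AlgebraicClosure K)) L (t ^ Fintype.card K) = t) :
    ∃ x : ↥(chevF4.group K), orderOf x = orderOf t ∧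
      (wordRoot chevF4 L 47 = 47 →
        (coreF4 (AlgebraicClosure K)).R.torusChar t ((coreF4 (AlgebraicClosure K)).R.α 47) = 1 →
          ∃ y : ↥(chevF4.group K), orderOf y = 2 ∧ Commute x y) := by
  set F := AlgebraicClosure K
  set f : K →+* F := algebraMap K F
  obtain ⟨c, hc⟩ := CharP.exists K
  obtain ⟨m, hcp, hcard⟩ := FiniteField.card K c
  have hc2 : c = 2 := by
    have h2 : 2 ∣ c ^ (m : ℕ) := ⟨2 ^ (n - 1), by rw [← hcard, hK, ← pow_succ', Nat.sub_add_cancel hn]⟩
    exact ((Nat.prime_dvd_prime_iff_eq Nat.prime_two hcp).1 (Nat.prime_two.dvd_of_dvd_pow h2)).symm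
  subst hc2
  have : CharP F 2 := charP_of_injective_ringHom f.injective 2
  have : ExpChar F 2 := ExpChar.prime Nat.prime_two
  let σ : F ≃+* F := iterateFrobeniusEquiv F 2 n
  have hσ : ∀ x, σ x = x ^ Fintype.card K := fun x => by
    rw [hK]; exact iterateFrobeniusEquiv_def F 2 n x
  obtain ⟨x, hx, hy⟩ := exists_fixed_element f (coreF4 F) σ Fintype.one_lt_card hσ
    (fun y hy => mem_range_of_pow_card f (by rw [← hσ, hy])) (fun i j => invMatF4 i j)
    (by decide +kernel) L t ht
  refine ⟨x, hx.trans (orderOf_injective _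
    (torus_injective (coreF4 F) (N := invMatF4) (Matrix.ext fun i k =>
      (invMatF4_mul i k).1.trans (by simp))) t), fun hρ hχ => ?_⟩
  exact hy ⟨47, by decide +kernel⟩ CharTwo.two_eq_zero hρ hχ

/-- Two odd primes whose orders share a row give an element of the product order. -/
theorem exists_element_pair {n r s : ℕ} (hn : 1 ≤ n) (hK : Fintype.card K = 2 ^ n) (hr : r.Prime)
    (hs : s.Prime) (hr2 : r ≠ 2) (hs2 : s ≠ 2) (hrs : r ≠ s) {k l : ℕ} (hk : k ∈ orders)
    (hl : l ∈ orders) (hkr : orderOf ((Fintype.card K : ℤ) : ZMod r) = k)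
    (hls : orderOf ((Fintype.card K : ℤ) : ZMod s) = l)
    (hkl : k = l ∨ (k, l) ∈ [(1, 2), (1, 3), (1, 4), (1, 6), (2, 3), (2, 4), (2, 6)]) :
    ∃ x : ↥(chevF4.group K), orderOf x = r * s := by
  have : Fact r.Prime := ⟨hr⟩
  have : Fact s.Prime := ⟨hs⟩
  obtain ⟨p, hp, e, he, rfl, e', he', rfl⟩ := rows_cover k hk l hl hkl
  have hok := List.all_eq_true.1 (List.all_eq_true.1 rows_ok p hp)
  have hnd : ∀ {t : ℕ}, t.Prime → t ≠ 2 → ¬ t ∣ Fintype.card K := fun ht h2 h => h2
    ((Nat.prime_dvd_prime_iff_eq ht Nat.prime_two).1 (ht.dvd_of_dvd_pow (hK ▸ h)))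
  obtain ⟨a, ha⟩ := exists_root_of_unity hn hK hr hr2
  obtain ⟨b, hb⟩ := exists_root_of_unity hn hK hs hs2
  obtain ⟨h1, o1⟩ := cert_spec (hok e he) (coreF4 (AlgebraicClosure K)) (hnd hr hr2)
    (dvd_phi_of_orderOf hk hkr) ha
  obtain ⟨h2, o2⟩ := cert_spec (hok e' he') (coreF4 (AlgebraicClosure K)) (hnd hs hs2)
    (dvd_phi_of_orderOf hl hls) hb
  obtain ⟨x, hx, -⟩ := exists_element hn hK (wordOf p.1)
    (eigTuple (Fintype.card K) a e * eigTuple (Fintype.card K) b e')
    (by rw [mul_pow, wordPar_mul, h1, h2])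
  refine ⟨x, hx.trans ?_⟩
  rw [(Commute.all _ _).orderOf_mul_eq_mul_orderOf_of_coprime (by
    rw [o1, o2]; exact (Nat.coprime_primes hr hs).2 hrs), o1, o2]

/-- An odd prime of small order gives an element of twice that order. -/
theorem exists_element_two {n s : ℕ} (hn : 1 ≤ n) (hK : Fintype.card K = 2 ^ n) (hs : s.Prime)
    (hs2 : s ≠ 2) {l : ℕ} (hls : orderOf ((Fintype.card K : ℤ) : ZMod s) = l)
    (hl : l ∈ [1, 2, 3, 4, 6]) : ∃ x : ↥(chevF4.group K), orderOf x = 2 * s := by
  have : Fact s.Prime := ⟨hs⟩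
  obtain ⟨p, hp, rfl⟩ := rootRows_cover l hl
  have hok := List.all_eq_true.1 rootRows_ok p hp
  simp only [Bool.and_eq_true, decide_eq_true_eq] at hok
  obtain ⟨⟨hok, hroot⟩, hchar⟩ := hok
  have hnd : ¬ s ∣ Fintype.card K := fun h => hs2
    ((Nat.prime_dvd_prime_iff_eq hs Nat.prime_two).1 (hs.dvd_of_dvd_pow (hK ▸ h)))
  obtain ⟨b, hb⟩ := exists_root_of_unity hn hK hs hs2
  have hlo : p.2.d ∈ orders := by
    simp only [List.mem_cons, List.not_mem_nil, or_false] at hl
    rcases hl with h | h | h | h | h <;> rw [h] <;> simp [orders]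
  obtain ⟨h1, o1⟩ := cert_spec hok (coreF4 (AlgebraicClosure K)) hnd
    (dvd_phi_of_orderOf hlo hls) hb
  obtain ⟨x, hx, hy⟩ := exists_element hn hK (wordOf p.1) _ h1
  have hlen : ∀ j : Fin chevF4.rank, (entry p.2 j.val).length = 4 := fun j => by
    simp only [certOK, List.all_eq_true, List.mem_finRange, true_implies, Bool.and_eq_true,
      decide_eq_true_eq] at hok
    exact (hok.2 j).1.1
  have hχ : (coreF4 (AlgebraicClosure K)).R.torusChar (eigTuple (Fintype.card K) b p.2)
      ((coreF4 (AlgebraicClosure K)).R.α 47) = 1 := by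
    rw [(coreF4 (AlgebraicClosure K)).R.torusChar_root _ (by decide +kernel)]
    have hz : ∑ j : Fin chevF4.rank, chevF4.cartan j.val 47 *
        evalL ((Fintype.card K : ℕ) : ℤ) (entry p.2 j.val) = 0 := by
      have h := congrArg (evalL ((Fintype.card K : ℕ) : ℤ)) hchar
      rw [(evalL_comb _ ((List.finRange chevF4.rank).map fun j =>
        (chevF4.cartan j.val 47, entry p.2 j.val)) (by
          intro x hx
          obtain ⟨j, -, rfl⟩ := List.mem_map.1 hx
          exact hlen j)).2, List.map_map] at h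
      rw [Fin.sum_univ_def]
      refine Eq.trans ?_ (h.trans (evalL_replicate_zero _ 4))
      rfl
    rw [← zpow_zero b, ← hz, ← prod_zpow_eq]
    exact Finset.prod_congr rfl fun j _ => by rw [eigTuple, ← zpow_mul, mul_comm]
  obtain ⟨y, hy2, hxy⟩ := hy hroot hχ
  refine ⟨y * x, ?_⟩
  rw [hxy.symm.orderOf_mul_eq_mul_orderOf_of_coprime (by
    rw [hy2, hx, o1]; exact (Nat.coprime_primes Nat.prime_two hs).2 (Ne.symm hs2)), hy2, hx, o1]

end finite

end CfsgLib.F4PrimeGraph
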