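import Cfsg.Agent.Lib.F4PrimeGraph.Order
import Cfsg.Agent.Lib.RegTorus.PairCriterion
import Cfsg.Agent.Lib.CycTorus.SylowTypes

/-!
# Prime pairs without an element of the product order in F₄(q), `q` even
-/

set_option autoImplicit false

namespace CfsgLib.F4PrimeGraph

open Cfsg.Lie CfsgLib.ChevStr CfsgLib.ChevField CfsgLib.CycTorus CfsgLib.RegTorus Polynomial

theorem forbidden_check : ∀ p ∈ polyList, (∀ d ∈ p.2, d ∈ orders) ∧
    (8 ∈ p.2 → p.2 = [8]) ∧ (12 ∈ p.2 → p.2 = [12]) ∧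
    (¬ (3 ∈ p.2 ∧ 4 ∈ p.2)) ∧ (¬ (3 ∈ p.2 ∧ 6 ∈ p.2)) ∧ ¬ (4 ∈ p.2 ∧ 6 ∈ p.2) := by
  decide +kernel

theorem phiR_three : ∀ a : ZMod 3, phiR 8 a ≠ 0 ∧ phiR 12 a ≠ 0 := by decide +kernel

theorem card_weylF4 : Nat.card reflDataF4.weyl = 1152 :=
  (Nat.card_congr coxDataF4.equivWeyl.toEquiv).symm.trans CfsgLib.CoxeterFinite.f4_card

theorem card_groupF4 (F : Type*) [Field F] [Fintype F] :
    Nat.card (chevF4.group F) = Fintype.card F ^ 24 *
      (([2, 6, 8, 12] : List ℕ).map fun e => Fintype.card F ^ e - 1).prod :=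
  (coreF4 F).card_group_mul rfl (ncard_isPosRoot (by decide +kernel)) poincareF4 (card_diagonalF4 F)
    |> (one_mul _).symm.trans

variable {F : Type*} [Field F] [Fintype F]

/-- Both primes of an element of order `r * s` divide one characteristic polynomial at `q`. -/
theorem exists_poly_of_element {n r s : ℕ} (hn : 1 ≤ n) (hF : Fintype.card F = 2 ^ n) (hr : r.Prime)
    (hs : s.Prime) (hrs : r ≠ s) (hs5 : 5 ≤ s)
    (hcase : 5 ≤ r ∨ orderOf ((Fintype.card F : ℤ) : ZMod s) ∈ [8, 12])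
    (hex : ∃ x : ↥(chevF4.group F), orderOf x = r * s) :
    ∃ p ∈ polyList, (s : ℤ) ∣ (p.2.map fun d => phi d (Fintype.card F)).prod ∧
      (r : ℤ) ∣ (p.2.map fun d => phi d (Fintype.card F)).prod := by
  classical
  obtain ⟨z, hz⟩ := hex
  have : Fact r.Prime := ⟨hr⟩
  have : Fact s.Prime := ⟨hs⟩
  have : Fact (Nat.Prime 2) := ⟨Nat.prime_two⟩
  set q := Fintype.card F with hq
  have hq2 : 2 ≤ q := Fintype.one_lt_card
  set M := (r - 1) * (s - 1) with hM
  have hMpos : 0 < M := Nat.mul_pos (by have := hr.two_le; omega) (by have := hs.two_le; omega)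
  have : CharP F 2 := by
    obtain ⟨c, hc⟩ := CharP.exists F
    obtain ⟨m, hcp, hcard⟩ := FiniteField.card F c
    have h2 : 2 ∣ c ^ (m : ℕ) := ⟨2 ^ (n - 1), by rw [← hcard, ← hq, hF, ← pow_succ', Nat.sub_add_cancel hn]⟩
    obtain rfl := (Nat.prime_dvd_prime_iff_eq Nat.prime_two hcp).1 (Nat.prime_two.dvd_of_dvd_pow h2)
    exact hc
  let K := GaloisField 2 (n * M)
  have : Fintype K := Fintype.ofFinite K
  have hK : Fintype.card K = q ^ M := by
    rw [← Nat.card_eq_fintype_card, GaloisField.card 2 _ (Nat.mul_ne_zero (by omega) hMpos.ne'), hF,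
      pow_mul]
  obtain ⟨ι⟩ := CfsgLib.PSL2.exists_fieldHom (F := K) (K := F) (m := M) (by rw [hK])
  let σh : K →+* K := iterateFrobenius K 2 n
  have hσ : ∀ x : K, σh x = x ^ q := fun x => by
    rw [hF]; exact iterateFrobenius_def 2 n x
  let σ : K ≃+* K := RingEquiv.ofBijective σh (Finite.injective_iff_bijective.1 σh.injective)
  have hQ : ∀ t : ℕ, t.Prime → ¬ t ∣ q → t - 1 ∣ M → t ∣ Fintype.card K - 1 := fun t ht htq htM => by
    have : Fact t.Prime := ⟨ht⟩
    obtain ⟨j, hj⟩ := htM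
    rw [hK, hj, ← ZMod.natCast_eq_zero_iff, Nat.cast_sub (Nat.one_le_pow _ _ (by omega)), Nat.cast_pow,
      pow_mul, ZMod.pow_card_sub_one_eq_one (by rwa [Ne, ZMod.natCast_eq_zero_iff]), one_pow,
      Nat.cast_one, sub_self]
  have hnq : ∀ t : ℕ, t.Prime → 5 ≤ t → ¬ t ∣ q := fun t ht h5 h => by
    rw [hF] at h
    have := (Nat.prime_dvd_prime_iff_eq ht Nat.prime_two).1 (ht.dvd_of_dvd_pow h)
    omega
  have hdeg : ∀ t : ℕ, t.Prime → 5 ≤ t → ∀ e ∈ ([2, 6, 8, 12] : List ℕ), ¬ t ∣ e := fun t ht h5 e he h => by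
    have hle := Nat.le_of_dvd (by fin_cases he <;> norm_num) h
    fin_cases he <;> interval_cases t <;> norm_num at *
  have hx : orderOf (z ^ r) = s := by
    rw [orderOf_pow' _ hr.ne_zero, hz, Nat.gcd_eq_right (Dvd.intro s rfl), Nat.mul_div_cancel_left _ hr.pos]
  have hy : orderOf (z ^ s) = r := by
    rw [orderOf_pow' _ hs.ne_zero, hz, Nat.gcd_eq_right (Dvd.intro_left r rfl), Nat.mul_div_cancel _ hs.pos]
  obtain ⟨w, hw, hsw, hrw⟩ := exists_weyl_dvd_pair (coreF4 K) ι σ (q := q) hσ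
    (fun a => (hσ _).trans (by rw [← map_pow, hq, FiniteField.pow_card])) (N := invMatF4)
    (Matrix.ext fun i k => (invMatF4_mul i k).1.trans (by simp)) (N₀ := 24) (degs := [2, 6, 8, 12])
    (by decide +kernel) (card_groupF4 K) (r := r) (s := s)
    (hQ s hs (hnq s hs hs5) (Dvd.intro_left _ rfl)) (hdeg s hs hs5) hx hy
    (by rw [← pow_add, ← pow_add, add_comm])
    (by
      rcases hcase with h5 | hl
      · exact Or.inl ⟨hQ r hr (hnq r hr h5) (Dvd.intro _ rfl), hdeg r hr h5⟩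
      · refine Or.inr ⟨?_, ?_⟩
        · simp only [List.mem_cons, List.not_mem_nil, or_false] at hl
          rcases hl with h | h <;> rw [h] <;> decide +kernel
        · intro h
          have h' : s ∣ 2 ^ 7 * 3 ^ 2 := by
            rw [show 2 ^ 7 * 3 ^ 2 = 1152 from rfl, ← card_weylF4]; exact h
          rcases hs.dvd_mul.1 h' with h | h
          · have := (Nat.prime_dvd_prime_iff_eq hs Nat.prime_two).1 (hs.dvd_of_dvd_pow h); omega
          · have := (Nat.prime_dvd_prime_iff_eq hs Nat.prime_three).1 (hs.dvd_of_dvd_pow h); omega)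
  obtain ⟨p, hp, hdet⟩ := exists_factor (w := w) hw (q : ℤ)
  exact ⟨p, hp, hdet ▸ hsw, hdet ▸ hrw⟩

/-- The non-adjacency criterion, one orientation. -/
theorem not_exists_element {n r s : ℕ} (hn : 1 ≤ n) (hF : Fintype.card F = 2 ^ n) (hr : r.Prime)
    (hs : s.Prime) (hrs : r ≠ s) {k l : ℕ} (hl : orderOf ((Fintype.card F : ℤ) : ZMod s) = l)
    (hcond : (l ∈ [8, 12] ∧ (r = 2 ∨ (orderOf ((Fintype.card F : ℤ) : ZMod r) = k ∧ k < l))) ∨
      (orderOf ((Fintype.card F : ℤ) : ZMod r) = k ∧ (k, l) ∈ [(3, 6), (4, 6), (3, 4)])) :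
    ¬ ∃ x : ↥(chevF4.group F), orderOf x = r * s := by
  intro hex
  have : Fact r.Prime := ⟨hr⟩
  have : Fact s.Prime := ⟨hs⟩
  have big : ∀ (t : ℕ) [Fact t.Prime] {d : ℕ}, d ∈ orders → 3 ≤ d →
      orderOf ((Fintype.card F : ℤ) : ZMod t) = d → 5 ≤ t := fun t _ d hd h3 h => by
    have h0 : ((Fintype.card F : ℤ) : ZMod t) ≠ 0 := fun e => by
      rw [e, orderOf_zero] at h; omega
    have h1 := Nat.le_of_dvd (by have := (Fact.out : t.Prime).two_le; omega)
      (h ▸ ZMod.orderOf_dvd_card_sub_one h0)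
    have h4 : t ≠ 4 := fun e => by
      have := (Fact.out : t.Prime)
      rw [e] at this
      norm_num at this
    omega
  have hl' : l ∈ orders ∧ 3 ≤ l := by
    rcases hcond with ⟨h, -⟩ | ⟨-, h⟩
    · fin_cases h <;> simp [orders]
    · simp only [List.mem_cons, Prod.mk.injEq, List.not_mem_nil, or_false] at h
      rcases h with ⟨-, rfl⟩ | ⟨-, rfl⟩ | ⟨-, rfl⟩ <;> simp [orders]
  have hs5 := big s hl'.1 hl'.2 hl
  have hcase : 5 ≤ r ∨ orderOf ((Fintype.card F : ℤ) : ZMod s) ∈ [8, 12] := by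
    rcases hcond with ⟨h, -⟩ | ⟨hk, h⟩
    · exact Or.inr (hl ▸ h)
    · simp only [List.mem_cons, Prod.mk.injEq, List.not_mem_nil, or_false] at h
      rcases h with ⟨rfl, -⟩ | ⟨rfl, -⟩ | ⟨rfl, -⟩ <;>
        exact Or.inl (big r (by simp [orders]) (by norm_num) hk)
  obtain ⟨p, hp, hsp, hrp⟩ := exists_poly_of_element hn hF hr hs hrs hs5 hcase hex
  obtain ⟨hord, h8, h12, h34, h36, h46⟩ := forbidden_check p hp
  have pick : ∀ t : ℕ, t.Prime → (t : ℤ) ∣ (p.2.map fun d => phi d (Fintype.card F)).prod →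
      ∃ d ∈ p.2, (t : ℤ) ∣ phi d (Fintype.card F) := fun t ht h => by
    obtain ⟨a, ha, hta⟩ := (Prime.dvd_prod_iff (Nat.prime_iff_prime_int.1 ht)).1 h
    obtain ⟨d, hd, rfl⟩ := List.mem_map.1 ha
    exact ⟨d, hd, hta⟩
  obtain ⟨d, hd, hsd⟩ := pick s hs hsp
  obtain rfl : l = d := hl.symm.trans (orderOf_of_dvd_phi hs5 (hord d hd) hsd)
  obtain ⟨d', hd', hrd⟩ := pick r hr hrp
  by_cases hr5 : 5 ≤ r
  · have hd'' := orderOf_of_dvd_phi hr5 (hord d' hd') hrd
    rcases hcond with ⟨h, h2⟩ | ⟨hk, h⟩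
    · rcases h2 with h2 | ⟨hk, hlt⟩
      · omega
      · obtain rfl : k = d' := hk.symm.trans hd''
        fin_cases h
        · rw [h8 hd] at hd'; simp at hd'; omega
        · rw [h12 hd] at hd'; simp at hd'; omega
    · obtain rfl : k = d' := hk.symm.trans hd''
      simp only [List.mem_cons, Prod.mk.injEq, List.not_mem_nil, or_false] at h
      rcases h with ⟨rfl, rfl⟩ | ⟨rfl, rfl⟩ | ⟨rfl, rfl⟩
      exacts [h36 ⟨hd', hd⟩, h46 ⟨hd', hd⟩, h34 ⟨hd', hd⟩]
  · have hl812 : l = 8 ∨ l = 12 := by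
      rcases hcase with h | h
      · exact absurd h hr5
      · rw [hl] at h; simpa using h
    have hd'l : d' = l := by
      rcases hl812 with rfl | rfl
      · rw [h8 hd] at hd'; simpa using hd'
      · rw [h12 hd] at hd'; simpa using hd'
    rw [hd'l, ← ZMod.intCast_zmod_eq_zero_iff_dvd, intCast_phi l hl'.1] at hrd
    have hr4 : r ≠ 4 := fun e => by rw [e] at hr; norm_num at hr
    have hr23 : r = 2 ∨ r = 3 := by have := hr.two_le; omega
    rcases hr23 with rfl | rfl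
    · have h0 : ((Fintype.card F : ℤ) : ZMod 2) = 0 := by
        rw [hF, Int.cast_natCast, ZMod.natCast_eq_zero_iff]
        exact dvd_pow_self 2 (by omega)
      rw [h0] at hrd
      rcases hl812 with rfl | rfl <;> simp [phiR] at hrd
    · rcases hl812 with rfl | rfl
      exacts [(phiR_three _).1 hrd, (phiR_three _).2 hrd]

end CfsgLib.F4PrimeGraph
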