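import Cfsg.Agent.Lib.F4PrimeGraph.Adjacent
import Cfsg.Agent.Lib.F4PrimeGraph.NonAdjacent

/-!
# The prime graph of F₄(q), `q` even
-/

set_option autoImplicit false

namespace CfsgLib.F4PrimeGraph

open Cfsg.Lie CfsgLib.ChevStr

variable {F : Type*} [Field F] [Fintype F]

theorem orderOf_mem_orders {n r : ℕ} (hF : Fintype.card F = 2 ^ n) (hr : r.Prime) (hr2 : r ≠ 2)
    (hrG : r ∣ Nat.card ↥(chevF4.group F)) :
    orderOf ((Fintype.card F : ℕ) : ZMod r) ∈ orders := by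
  have : Fact r.Prime := ⟨hr⟩
  rw [card_groupF4] at hrG
  have hnd : ¬ r ∣ Fintype.card F := fun h => hr2
    ((Nat.prime_dvd_prime_iff_eq hr Nat.prime_two).1 (hr.dvd_of_dvd_pow (hF ▸ h)))
  rcases hr.dvd_mul.1 hrG with h | h
  · exact absurd (hr.dvd_of_dvd_pow h) hnd
  · obtain ⟨a, ha, hra⟩ := (Prime.dvd_prod_iff (Nat.prime_iff.1 hr)).1 h
    obtain ⟨d, hd, rfl⟩ := List.mem_map.1 ha
    have hdvd : orderOf ((Fintype.card F : ℕ) : ZMod r) ∣ d := by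
      rw [orderOf_dvd_iff_pow_eq_one, ← Nat.cast_pow]
      have := (ZMod.natCast_eq_zero_iff _ _).2 hra
      rwa [Nat.cast_sub (Nat.one_le_pow _ _ Fintype.card_pos), Nat.cast_one, sub_eq_zero] at this
    have hle := Nat.le_of_dvd (by fin_cases hd <;> norm_num) hdvd
    fin_cases hd <;>
      (generalize orderOf ((Fintype.card F : ℕ) : ZMod r) = o at hdvd hle ⊢
       interval_cases o <;> simp [orders] at hdvd ⊢)

theorem allowed_single : ∀ l ∈ orders, ¬ (l = 8 ∨ l = 12) → l ∈ [1, 2, 3, 4, 6] := by decide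

theorem allowed_pair : ∀ k ∈ orders, ∀ l ∈ orders, k ≤ l →
    ¬ (k < l ∧ ((l = 8 ∨ l = 12) ∨ (l = 6 ∧ (k = 3 ∨ k = 4)) ∨ (l = 4 ∧ k = 3))) →
      k = l ∨ (k, l) ∈ [(1, 2), (1, 3), (1, 4), (1, 6), (2, 3), (2, 4), (2, 6)] := by decide

/-- The adjacency criterion. -/
theorem adjacency {n r s : ℕ} (hn : 1 ≤ n) (hF : Fintype.card F = 2 ^ n)
    (hr : r.Prime) (hs : s.Prime) (hrs : r ≠ s) (hrG : r ∣ Nat.card ↥(chevF4.group F))
    (hsG : s ∣ Nat.card ↥(chevF4.group F)) {k l : ℕ}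
    (hk : orderOf ((Fintype.card F : ℕ) : ZMod r) = k)
    (hl : orderOf ((Fintype.card F : ℕ) : ZMod s) = l) :
    (¬ ∃ x : ↥(chevF4.group F), orderOf x = r * s) ↔
      ((r = 2 ∧ l ∈ ({8, 12} : Finset ℕ)) ∨ (s = 2 ∧ k ∈ ({8, 12} : Finset ℕ)) ∨
       (r ≠ 2 ∧ s ≠ 2 ∧
         ((k < l ∧ (l ∈ ({8, 12} : Finset ℕ) ∨ (l = 6 ∧ k ∈ ({3, 4} : Finset ℕ)) ∨ (l = 4 ∧ k = 3))) ∨
          (l < k ∧ (k ∈ ({8, 12} : Finset ℕ) ∨ (k = 6 ∧ l ∈ ({3, 4} : Finset ℕ)) ∨ (k = 4 ∧ l = 3)))))) := by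
  have hk' : orderOf (((Fintype.card F : ℕ) : ℤ) : ZMod r) = k := by rwa [Int.cast_natCast]
  have hl' : orderOf (((Fintype.card F : ℕ) : ℤ) : ZMod s) = l := by rwa [Int.cast_natCast]
  have hsym : (∃ x : ↥(chevF4.group F), orderOf x = r * s) ↔
      ∃ x : ↥(chevF4.group F), orderOf x = s * r := by simp only [mul_comm]
  simp only [Finset.mem_insert, Finset.mem_singleton]
  have no : ∀ {r s k l : ℕ}, r.Prime → s.Prime → r ≠ s →
      orderOf (((Fintype.card F : ℕ) : ℤ) : ZMod r) = k →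
      orderOf (((Fintype.card F : ℕ) : ℤ) : ZMod s) = l →
      (r = 2 ∧ (l = 8 ∨ l = 12)) ∨ (k < l ∧ ((l = 8 ∨ l = 12) ∨ (l = 6 ∧ (k = 3 ∨ k = 4)) ∨ (l = 4 ∧ k = 3))) →
      ¬ ∃ x : ↥(chevF4.group F), orderOf x = r * s := by
    intro r s k l hr hs hrs hk hl h
    refine not_exists_element hn hF hr hs hrs hl (k := k) ?_
    rcases h with ⟨h2, h⟩ | ⟨hlt, h | ⟨rfl, h⟩ | ⟨rfl, rfl⟩⟩
    · exact Or.inl ⟨by simpa using h, Or.inl h2⟩
    · exact Or.inl ⟨by simpa using h, Or.inr ⟨hk, hlt⟩⟩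
    · exact Or.inr ⟨hk, by rcases h with rfl | rfl <;> simp⟩
    · exact Or.inr ⟨hk, by simp⟩
  constructor
  · intro hne
    by_contra hcon
    apply hne
    rcases eq_or_ne r 2 with rfl | hr2
    · have hs2 : s ≠ 2 := Ne.symm hrs
      exact exists_element_two hn hF hs hs2 hl' (allowed_single l (hl ▸ orderOf_mem_orders hF hs hs2 hsG)
        fun h => hcon (Or.inl ⟨rfl, h⟩))
    rcases eq_or_ne s 2 with rfl | hs2
    · exact hsym.2 (exists_element_two hn hF hr hr2 hk'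
        (allowed_single k (hk ▸ orderOf_mem_orders hF hr hr2 hrG)
          fun h => hcon (Or.inr (Or.inl ⟨rfl, h⟩))))
    have hko := hk ▸ orderOf_mem_orders hF hr hr2 hrG
    have hlo := hl ▸ orderOf_mem_orders hF hs hs2 hsG
    rcases le_or_gt k l with hle | hgt
    · exact exists_element_pair hn hF hr hs hr2 hs2 hrs hko hlo hk' hl'
        (allowed_pair k hko l hlo hle fun h => hcon (Or.inr (Or.inr ⟨hr2, hs2, Or.inl h⟩)))
    · exact hsym.2 (exists_element_pair hn hF hs hr hs2 hr2 (Ne.symm hrs) hlo hko hl' hk'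
        (allowed_pair l hlo k hko hgt.le fun h => hcon (Or.inr (Or.inr ⟨hr2, hs2, Or.inr h⟩))))
  · rintro (⟨h2, h⟩ | ⟨h2, h⟩ | ⟨-, -, h | h⟩)
    · exact no hr hs hrs hk' hl' (Or.inl ⟨h2, h⟩)
    · exact fun e => no hs hr (Ne.symm hrs) hl' hk' (Or.inl ⟨h2, h⟩) (hsym.1 e)
    · exact no hr hs hrs hk' hl' (Or.inr h)
    · exact fun e => no hs hr (Ne.symm hrs) hl' hk' (Or.inr h) (hsym.1 e)

end CfsgLib.F4PrimeGraph
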