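import Cfsg.Agent.Lib.F4PrimeGraph.Weyl
import Mathlib.GroupTheory.OrderOfElement
import Mathlib.Tactic.LinearCombination
import Mathlib.Tactic.FieldSimp

/-!
# Cyclotomic values of degree at most four and multiplicative orders
-/

set_option autoImplicit false

namespace CfsgLib.F4PrimeGraph

open CfsgLib.RegTorus.Coef

/-- The orders occurring. -/
def orders : List ℕ := [1, 2, 3, 4, 6, 8, 12]

variable {R : Type*} [CommRing R] [IsDomain R]

/-- The value of a cyclotomic polynomial in a ring. -/
def phiR (d : ℕ) (x : R) : R :=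
  match d with
  | 1 => x - 1
  | 2 => x + 1
  | 3 => x ^ 2 + x + 1
  | 4 => x ^ 2 + 1
  | 6 => x ^ 2 - x + 1
  | 8 => x ^ 4 + 1
  | 12 => x ^ 4 - x ^ 2 + 1
  | _ => 1

theorem intCast_phi (d : ℕ) (hd : d ∈ orders) (q : ℤ) : ((phi d q : ℤ) : R) = phiR d (q : R) := by
  simp only [orders, List.mem_cons, List.not_mem_nil, or_false] at hd
  rcases hd with rfl | rfl | rfl | rfl | rfl | rfl | rfl <;>
    simp [phi, phiL, evalL, phiR] <;> ring

theorem orderOf_of_phiR {x : R} (h2 : (2 : R) ≠ 0) (h3 : (3 : R) ≠ 0) {d : ℕ} (hd : d ∈ orders)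
    (h : phiR d x = 0) : orderOf x = d := by
  simp only [orders, List.mem_cons, List.not_mem_nil, or_false] at hd
  have key : ∀ n : ℕ, 0 < n → x ^ n = 1 → (∀ p : ℕ, p.Prime → p ∣ n → x ^ (n / p) ≠ 1) →
      orderOf x = n := fun n hn h1 h2 => orderOf_eq_of_pow_and_pow_div_prime hn h1 h2
  have hp : ∀ n p : ℕ, n ∈ [2, 3, 4, 6, 8, 12] → p.Prime → p ∣ n → p = 2 ∨ p = 3 := by
    intro n p hn hp hdvd
    have hle := Nat.le_of_dvd (by fin_cases hn <;> norm_num) hdvd
    fin_cases hn <;> interval_cases p <;> norm_num at *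
  rcases hd with rfl | rfl | rfl | rfl | rfl | rfl | rfl <;> simp only [phiR] at h
  · rw [orderOf_eq_one_iff]; linear_combination h
  · refine key 2 (by norm_num) (by linear_combination (x - 1) * h) fun p hpp hdvd e => h2 ?_
    obtain rfl := (Nat.prime_dvd_prime_iff_eq hpp Nat.prime_two).1 hdvd
    simp only [Nat.reduceDiv, Nat.div_self (by norm_num : 0 < 2), pow_one] at e; linear_combination h - e
  · refine key 3 (by norm_num) (by linear_combination (x - 1) * h) fun p hpp hdvd e => h3 ?_
    obtain rfl := (Nat.prime_dvd_prime_iff_eq hpp Nat.prime_three).1 hdvd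
    simp only [Nat.reduceDiv, pow_one] at e; linear_combination h - (x + 2) * e
  · refine key 4 (by norm_num) (by linear_combination (x ^ 2 - 1) * h) fun p hpp hdvd e => h2 ?_
    rcases hp 4 p (by simp) hpp hdvd with rfl | rfl
    · simp only [Nat.reduceDiv] at e; linear_combination h - e
    · norm_num at hdvd
  · refine key 6 (by norm_num) (by linear_combination (x ^ 4 + x ^ 3 - x - 1) * h) fun p hpp hdvd e => ?_
    rcases hp 6 p (by simp) hpp hdvd with rfl | rfl <;> simp only [Nat.reduceDiv] at e
    · exact h2 (by linear_combination (x + 1) * h - e)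
    · refine h3 ?_
      have hx : x = 2 := by linear_combination e - h
      subst hx; linear_combination h
  · refine key 8 (by norm_num) (by linear_combination (x ^ 4 - 1) * h) fun p hpp hdvd e => h2 ?_
    rcases hp 8 p (by simp) hpp hdvd with rfl | rfl
    · simp only [Nat.reduceDiv] at e; linear_combination h - e
    · norm_num at hdvd
  · refine key 12 (by norm_num) (by linear_combination (x ^ 8 + x ^ 6 - x ^ 2 - 1) * h) fun p hpp hdvd e => ?_
    rcases hp 12 p (by simp) hpp hdvd with rfl | rfl <;> simp only [Nat.reduceDiv] at e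
    · exact h2 (by linear_combination (x ^ 2 + 1) * h - e)
    · have hx : x ^ 2 = 2 := by linear_combination e - h
      exact h3 (by linear_combination e - (x ^ 2 + 2) * hx)

theorem phiR_of_orderOf {x : R} {d : ℕ} (hd : d ∈ orders) (h : orderOf x = d) : phiR d x = 0 := by
  have h1 := pow_orderOf_eq_one x
  rw [h] at h1
  have hne : ∀ e, 0 < e → e < d → x ^ e ≠ 1 := fun e he hlt =>
    pow_ne_one_of_lt_orderOf he.ne' (h ▸ hlt)
  simp only [orders, List.mem_cons, List.not_mem_nil, or_false] at hd
  rcases hd with rfl | rfl | rfl | rfl | rfl | rfl | rfl <;> simp only [phiR]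
  · linear_combination h1
  · have := hne 1 one_pos (by norm_num)
    exact (mul_eq_zero.1 (show (x - 1) * (x + 1) = 0 by linear_combination h1)).resolve_left
      fun e => this (by linear_combination e)
  · have := hne 1 one_pos (by norm_num)
    exact (mul_eq_zero.1 (show (x - 1) * (x ^ 2 + x + 1) = 0 by linear_combination h1)).resolve_left
      fun e => this (by linear_combination e)
  · have := hne 2 (by norm_num) (by norm_num)
    exact (mul_eq_zero.1 (show (x ^ 2 - 1) * (x ^ 2 + 1) = 0 by linear_combination h1)).resolve_left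
      fun e => this (by linear_combination e)
  · have a := hne 3 (by norm_num) (by norm_num)
    have b := hne 2 (by norm_num) (by norm_num)
    refine (mul_eq_zero.1 (show (x ^ 3 - 1) * (x + 1) * (x ^ 2 - x + 1) = 0 by
      linear_combination h1)).resolve_left fun e => ?_
    rcases mul_eq_zero.1 e with e | e
    · exact a (by linear_combination e)
    · exact b (by linear_combination (x - 1) * e)
  · have := hne 4 (by norm_num) (by norm_num)
    exact (mul_eq_zero.1 (show (x ^ 4 - 1) * (x ^ 4 + 1) = 0 by linear_combination h1)).resolve_left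
      fun e => this (by linear_combination e)
  · have a := hne 6 (by norm_num) (by norm_num)
    have b := hne 4 (by norm_num) (by norm_num)
    refine (mul_eq_zero.1 (show (x ^ 6 - 1) * (x ^ 2 + 1) * (x ^ 4 - x ^ 2 + 1) = 0 by
      linear_combination h1)).resolve_left fun e => ?_
    rcases mul_eq_zero.1 e with e | e
    · exact a (by linear_combination e)
    · exact b (by linear_combination (x ^ 2 - 1) * e)

variable {r : ℕ} [Fact r.Prime]

theorem dvd_phi_of_orderOf {q : ℤ} {d : ℕ} (hd : d ∈ orders) (h : orderOf (q : ZMod r) = d) :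
    (r : ℤ) ∣ phi d q := by
  rw [← ZMod.intCast_zmod_eq_zero_iff_dvd, intCast_phi d hd]
  exact phiR_of_orderOf hd h

theorem orderOf_of_dvd_phi (h5 : 5 ≤ r) {q : ℤ} {d : ℕ} (hd : d ∈ orders) (h : (r : ℤ) ∣ phi d q) :
    orderOf (q : ZMod r) = d := by
  have hne : ∀ n : ℕ, 0 < n → n < 5 → ((n : ℕ) : ZMod r) ≠ 0 := fun n hn hlt e => by
    have := Nat.le_of_dvd hn ((ZMod.natCast_eq_zero_iff _ _).1 e)
    omega
  rw [← ZMod.intCast_zmod_eq_zero_iff_dvd, intCast_phi d hd] at h
  exact orderOf_of_phiR (hne 2 (by norm_num) (by norm_num)) (hne 3 (by norm_num) (by norm_num)) hd h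

end CfsgLib.F4PrimeGraph
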