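import Cfsg.Agent.Lib.AltExceptional.F4Weyl
import Cfsg.Agent.Lib.CycTorus.Group
import Cfsg.Agent.Lib.RegTorus.CoefList
import Mathlib.LinearAlgebra.Matrix.Determinant.Basic

/-!
# Characteristic polynomials in the Weyl group of type F₄, and eigenvector certificates
-/

set_option autoImplicit false

namespace CfsgLib.F4PrimeGraph

open Cfsg.Lie CfsgLib.ChevStr CfsgLib.AltExceptional CfsgLib.RegTorus.Coef CfsgLib.CycTorus Matrix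

/-- The coefficients of the cyclotomic polynomials of degree at most four. -/
def phiL : ℕ → List ℤ
  | 1 => [-1, 1, 0, 0, 0]
  | 2 => [1, 1, 0, 0, 0]
  | 3 => [1, 1, 1, 0, 0]
  | 4 => [1, 0, 1, 0, 0]
  | 6 => [1, -1, 1, 0, 0]
  | 8 => [1, 0, 0, 0, 1]
  | 12 => [1, 0, -1, 0, 1]
  | _ => [1, 0, 0, 0, 0]

/-- The value of a cyclotomic polynomial. -/
def phi (d : ℕ) (q : ℤ) : ℤ := evalL q (phiL d)

/-- The characteristic polynomials of the Weyl group with their cyclotomic factors. -/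
def polyList : List (List ℤ × List ℕ) :=
  [([1, -4, 6, -4, 1], [1, 1, 1, 1]),
    ([-1, 2, 0, -2, 1], [1, 1, 1, 2]),
    ([1, 0, -2, 0, 1], [1, 1, 2, 2]),
    ([1, -1, 0, -1, 1], [1, 1, 3]),
    ([1, -2, 2, -2, 1], [1, 1, 4]),
    ([-1, -2, 0, 2, 1], [1, 2, 2, 2]),
    ([-1, -1, 0, 1, 1], [1, 2, 3]),
    ([-1, 0, 0, 0, 1], [1, 2, 4]),
    ([-1, 1, 0, -1, 1], [1, 2, 6]),
    ([1, 4, 6, 4, 1], [2, 2, 2, 2]),
    ([1, 2, 2, 2, 1], [2, 2, 4]),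
    ([1, 1, 0, 1, 1], [2, 2, 6]),
    ([1, 2, 3, 2, 1], [3, 3]),
    ([1, 0, 2, 0, 1], [4, 4]),
    ([1, -2, 3, -2, 1], [6, 6]),
    ([1, 0, 0, 0, 1], [8]),
    ([1, 0, -1, 0, 1], [12])]

theorem polyList_factor : ∀ p ∈ polyList, ∀ q : ℤ,
    evalL q p.1 = (p.2.map fun d => phi d q).prod := by
  intro p hp q
  simp only [polyList, List.mem_cons, List.not_mem_nil, or_false] at hp
  rcases hp with h | h | h | h | h | h | h | h | h | h | h | h | h | h | h | h | h <;> subst h <;>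
    simp [phi, phiL, evalL] <;> ring

/-- A principal minor of size three. -/
def minor3 (f : ℕ → ℕ → ℤ) (a b c : ℕ) : ℤ :=
  f a a * (f b b * f c c - f b c * f c b) - f a b * (f b a * f c c - f b c * f c a) +
    f a c * (f b a * f c b - f b b * f c a)

/-- The determinant of a matrix of size four, by the first row. -/
def det4 (f : ℕ → ℕ → ℤ) : ℤ :=
  f 0 0 * (f 1 1 * (f 2 2 * f 3 3 - f 2 3 * f 3 2) - f 1 2 * (f 2 1 * f 3 3 - f 2 3 * f 3 1) +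
      f 1 3 * (f 2 1 * f 3 2 - f 2 2 * f 3 1)) -
    f 0 1 * (f 1 0 * (f 2 2 * f 3 3 - f 2 3 * f 3 2) - f 1 2 * (f 2 0 * f 3 3 - f 2 3 * f 3 0) +
      f 1 3 * (f 2 0 * f 3 2 - f 2 2 * f 3 0)) +
    f 0 2 * (f 1 0 * (f 2 1 * f 3 3 - f 2 3 * f 3 1) - f 1 1 * (f 2 0 * f 3 3 - f 2 3 * f 3 0) +
      f 1 3 * (f 2 0 * f 3 1 - f 2 1 * f 3 0)) -
    f 0 3 * (f 1 0 * (f 2 1 * f 3 2 - f 2 2 * f 3 1) - f 1 1 * (f 2 0 * f 3 2 - f 2 2 * f 3 0) +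
      f 1 2 * (f 2 0 * f 3 1 - f 2 1 * f 3 0))

/-- The characteristic polynomial of a matrix of size four. -/
def charL (f : ℕ → ℕ → ℤ) : List ℤ :=
  [det4 f, -(minor3 f 0 1 2 + minor3 f 0 1 3 + minor3 f 0 2 3 + minor3 f 1 2 3),
    f 0 0 * f 1 1 - f 0 1 * f 1 0 + (f 0 0 * f 2 2 - f 0 2 * f 2 0) +
      (f 0 0 * f 3 3 - f 0 3 * f 3 0) + (f 1 1 * f 2 2 - f 1 2 * f 2 1) +
      (f 1 1 * f 3 3 - f 1 3 * f 3 1) + (f 2 2 * f 3 3 - f 2 3 * f 3 2),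
    -(f 0 0 + f 1 1 + f 2 2 + f 3 3), 1]

set_option maxRecDepth 4000 in
theorem det_smul_one_sub (f : ℕ → ℕ → ℤ) (q : ℤ) :
    (q • (1 : Matrix (Fin 4) (Fin 4) ℤ) - Matrix.of fun a b : Fin 4 => f a.val b.val).det =
      evalL q (charL f) := by
  have e : q • (1 : Matrix (Fin 4) (Fin 4) ℤ) - Matrix.of (fun a b : Fin 4 => f a.val b.val) =
      !![q - f 0 0, -f 0 1, -f 0 2, -f 0 3; -f 1 0, q - f 1 1, -f 1 2, -f 1 3; -f 2 0, -f 2 1, q - f 2 2, -f 2 3; -f 3 0, -f 3 1, -f 3 2, q - f 3 3] := by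
    ext i j
    rw [Matrix.sub_apply, Matrix.smul_apply, Matrix.one_apply, smul_eq_mul]
    fin_cases i <;> fin_cases j <;> simp
  rw [e]
  simp [Matrix.det_succ_row_zero, Fin.sum_univ_succ, Fin.succAbove, charL, det4, minor3, evalL]
  ring

/-- The test on characteristic polynomials. -/
def charAt (n : ℕ) : Bool := polyList.any fun p => p.1 == charL (keyEnt n)

set_option maxRecDepth 20000 in
theorem table_char : f4Table.all charAt = true := by decide +kernel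

/-- The characteristic polynomial of a Weyl group element, factorised. -/
theorem exists_factor {w : Equiv.Perm (Fin chevF4.nroots)} (hw : w ∈ reflDataF4.weyl) (q : ℤ) :
    ∃ p ∈ polyList,
      (q • (1 : Matrix (Fin chevF4.rank) (Fin chevF4.rank) ℤ) - wMat rootDataF4 w).det =
        (p.2.map fun d => phi d q).prod := by
  obtain ⟨n, hn, hkey⟩ := exists_key hw
  obtain ⟨p, hp, hpc⟩ := List.any_eq_true.1 (KeyTree.all_has table_char hn)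
  refine ⟨p, hp, ?_⟩
  rw [← polyList_factor p hp, eq_of_beq hpc, ← det_smul_one_sub]
  have e : wMat rootDataF4 w = Matrix.of fun a b : Fin chevF4.rank => keyEnt n a.val b.val :=
    Matrix.ext fun a b => hkey a b
  rw [e]
  rfl

/-- An eigenvector certificate: the entries as coefficient lists, the coordinate with a unit entry,
and the multipliers. -/
structure EigCert where
  /-- The order of the eigenvalue. -/
  d : ℕ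
  /-- The entries. -/
  v : List (List ℤ)
  /-- The coordinate with a unit entry. -/
  a : ℕ
  /-- The multipliers. -/
  h : List ℤ

/-- Words with eigenvector certificates for pairs of orders. -/
def rows : List (List ℕ × List EigCert) :=
  [([0], [⟨1, [[0, 0, 0, 0], [0, 0, 0, 0], [0, 0, 0, 0], [1, 0, 0, 0]], 3, [0, 0, 0, 1]⟩,
      ⟨2, [[1, 0, 0, 0], [0, 0, 0, 0], [0, 0, 0, 0], [0, 0, 0, 0]], 0, [-1, 0, 0, 0]⟩]),
    ([0, 1], [⟨1, [[0, 0, 0, 0], [0, 0, 0, 0], [0, 0, 0, 0], [1, 0, 0, 0]], 3, [0, 0, 0, 1]⟩,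
      ⟨3, [[1, 1, 0, 0], [0, 1, 0, 0], [0, 0, 0, 0], [0, 0, 0, 0]], 1, [-1, 0, 0, 0]⟩]),
    ([1, 2], [⟨1, [[1, 0, 0, 0], [1, 0, 0, 0], [1, 0, 0, 0], [0, 0, 0, 0]], 0, [1, 1, 1, 0]⟩,
      ⟨4, [[0, 0, 0, 0], [1, 0, 0, 0], [1, 1, 0, 0], [0, 0, 0, 0]], 1, [0, -1, -1, 0]⟩]),
    ([0, 1, 2], [⟨1, [[1, 0, 0, 0], [2, 0, 0, 0], [3, 0, 0, 0], [2, 0, 0, 0]], 0, [1, 2, 3, 2]⟩,
      ⟨6, [[1, 0, 0, 0], [1, 1, 0, 0], [0, 2, 0, 0], [0, 0, 0, 0]], 0, [-1, -1, 0, 0]⟩]),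
    ([0, 1, 3], [⟨2, [[0, 0, 0, 0], [0, 0, 0, 0], [0, 0, 0, 0], [1, 0, 0, 0]], 3, [0, 0, 0, -1]⟩,
      ⟨3, [[1, 1, 0, 0], [0, 1, 0, 0], [0, 0, 0, 0], [0, 0, 0, 0]], 1, [-1, 0, 0, 0]⟩]),
    ([0, 1, 2, 1, 2], [⟨2, [[0, 0, 0, 0], [0, 0, 0, 0], [1, 0, 0, 0], [0, 0, 0, 0]], 2, [0, 0, -1, 0]⟩,
      ⟨4, [[1, 0, 0, 0], [1, 1, 0, 0], [1, 1, 0, 0], [0, 0, 0, 0]], 0, [-1, -1, -1, 0]⟩]),
    ([0, 1, 2], [⟨2, [[1, 0, 0, 0], [0, 0, 0, 0], [1, 0, 0, 0], [0, 0, 0, 0]], 0, [-1, 0, -1, 0]⟩,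
      ⟨6, [[1, 0, 0, 0], [1, 1, 0, 0], [0, 2, 0, 0], [0, 0, 0, 0]], 0, [-1, -1, 0, 0]⟩]),
    ([0, 1, 2, 1, 2, 3], [⟨8, [[0, 1, 0, 0], [0, 1, 1, 0], [1, 1, 1, 1], [0, 1, 0, 1]], 0, [0, 0, -1, 0]⟩]),
    ([0, 1, 2, 3], [⟨12, [[1, 0, 0, 0], [1, 1, 0, 0], [1, 1, 1, 0], [1, 0, 0, 1]], 0, [-1, -1, -1, -1]⟩])]

/-- Words fixing the highest root, with certificates trivial on it. -/
def rootRows : List (List ℕ × EigCert) :=
  [([], ⟨1, [[0, 0, 0, 0], [0, 0, 0, 0], [1, 0, 0, 0], [0, 0, 0, 0]], 2, [0, 0, 1, 0]⟩),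
    ([0], ⟨2, [[1, 0, 0, 0], [0, 0, 0, 0], [0, 0, 0, 0], [0, 0, 0, 0]], 0, [-1, 0, 0, 0]⟩),
    ([0, 1], ⟨3, [[1, 1, 0, 0], [0, 1, 0, 0], [0, 0, 0, 0], [0, 0, 0, 0]], 1, [-1, 0, 0, 0]⟩),
    ([1, 2], ⟨4, [[0, 0, 0, 0], [1, 0, 0, 0], [1, 1, 0, 0], [0, 0, 0, 0]], 1, [0, -1, -1, 0]⟩),
    ([0, 1, 2], ⟨6, [[1, 0, 0, 0], [1, 1, 0, 0], [0, 2, 0, 0], [0, 0, 0, 0]], 0, [-1, -1, 0, 0]⟩)]

end CfsgLib.F4PrimeGraph
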